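import Cfsg.Agent.Lib.H16.G24M.Model.Summary

set_option autoImplicit false

/-!
# The monomial model of the double cover of `G2(4)` (helper16)

Three permutations of `Fin 4032 × ZMod 12` satisfying the exact relators `PE`, commuting with the values of
the central relators `ZL`, and on which the word `uW` acts as the shift by `6`.
-/

namespace Cfsg.Agent.Lib.H16.G24M

open Cfsg.Agent.Lib.H17.MonoModel
open Cfsg.Agent.Lib.H12.J3M (gl3 wv3)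

/-- the model permutations -/
noncomputable def sg (x : ℕ) : Equiv.Perm (Fin 4032 × ZMod 12) :=
  σM Model.range_ok Model.pairs_ok x

theorem gl3_sg (x : ℕ) (hx : x < 6) : gl3 (sg 0)⁻¹ (sg 2)⁻¹ (sg 4)⁻¹ x = (sg x)⁻¹ := by
  have h0 : sg 1 = (sg 0)⁻¹ := σM_inv Model.range_ok Model.pairs_ok 0 (by norm_num)
  have h2 : sg 3 = (sg 2)⁻¹ := σM_inv Model.range_ok Model.pairs_ok 2 (by norm_num)
  have h4 : sg 5 = (sg 4)⁻¹ := σM_inv Model.range_ok Model.pairs_ok 4 (by norm_num)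
  interval_cases x
  · rfl
  · change (sg 0)⁻¹⁻¹ = (sg 1)⁻¹
    rw [h0]
  · rfl
  · change (sg 2)⁻¹⁻¹ = (sg 3)⁻¹
    rw [h2]
  · rfl
  · change (sg 4)⁻¹⁻¹ = (sg 5)⁻¹
    rw [h4]

theorem wv3_sg (w : List ℕ) (hw : ∀ x ∈ w, x < 6) (e : ℕ)
    (h : checkWordM (w.map Model.tabs) e 4032 = true) :
    wv3 (sg 0)⁻¹ (sg 2)⁻¹ (sg 4)⁻¹ w = (shiftP 4032 (e : ZMod 12))⁻¹ := by
  rw [← word_perm_eq Model.range_ok Model.pairs_ok w hw e h]
  unfold wv3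
  congr 1
  apply List.map_congr_left
  intro x hx
  exact gl3_sg x (hw x hx)

theorem sg_exact : ∀ w ∈ PE, wv3 (sg 0)⁻¹ (sg 2)⁻¹ (sg 4)⁻¹ w = 1 := by
  intro w hw
  rw [wv3_sg w (Model.letters_lt w (List.mem_append_left _ hw)) 0 (Model.exact_chk w hw)]
  simp [shiftP_zero]

theorem sg_central : ∀ w ∈ ZL, ∀ i : Fin 3,
    wv3 (sg 0)⁻¹ (sg 2)⁻¹ (sg 4)⁻¹ w * ![(sg 0)⁻¹, (sg 2)⁻¹, (sg 4)⁻¹] i =
      ![(sg 0)⁻¹, (sg 2)⁻¹, (sg 4)⁻¹] i * wv3 (sg 0)⁻¹ (sg 2)⁻¹ (sg 4)⁻¹ w := by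
  intro w hw i
  obtain ⟨e, he⟩ := Model.central_chk w hw
  have hlt : ∀ x ∈ w, x < 6 := Model.letters_lt w (List.mem_append_right _ hw)
  rw [wv3_sg w hlt e he]
  have key : ∀ x, x < 6 →
      (shiftP 4032 (e : ZMod 12))⁻¹ * (sg x)⁻¹ = (sg x)⁻¹ * (shiftP 4032 (e : ZMod 12))⁻¹ := by
    intro x hx
    have := shiftP_comm Model.range_ok Model.pairs_ok x hx (e : ZMod 12)
    exact (this.inv_inv).eq
  fin_cases i
  · exact key 0 (by norm_num)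
  · exact key 2 (by norm_num)
  · exact key 4 (by norm_num)

theorem sg_uW_ne : wv3 (sg 0)⁻¹ (sg 2)⁻¹ (sg 4)⁻¹ uW ≠ 1 := by
  rw [wv3_sg uW (by decide) 6 Model.sym0_chk]
  intro h
  have h1 : shiftP 4032 ((6 : ℕ) : ZMod 12) = 1 := inv_eq_one.mp h
  have := congrArg (fun f : Equiv.Perm (Fin 4032 × ZMod 12) => (f (⟨0, by norm_num⟩, 0)).2) h1
  simp only [shiftP_apply, Equiv.Perm.coe_one, id_eq] at this
  change (0 : ZMod 12) + ((6 : ℕ) : ZMod 12) = 0 at this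
  revert this
  decide

end Cfsg.Agent.Lib.H16.G24M
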