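import Cfsg.Agent.Lib.H16.G24M.Stem
import Cfsg.Agent.Lib.H16.G24M.ModelFacts
import Cfsg.Agent.Lib.H25.G24LB
import Cfsg.Agent.Lib.H18.SchurPrime

set_option autoImplicit false

/-!
# The Schur multiplier of a group with the `G2(4)` data is cyclic of order two (helper16)

Upper bound: `Base.card_ker_dvd` (two monomial coset enumeration certificates).  Lower bound: helper25's
`exists_cover` (the presented group is a double cover) applied to the monomial model on
`Fin 4032 × ZMod 12`.
-/

namespace Cfsg.Agent.Lib.H16.G24M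

theorem Base.main {G : Type} [Group G] {am bm cm : G} (B : Base am bm cm) :
    Cfsg.HasCyclicSchurMultiplier G 2 := by
  have := B.finite
  have : Fact (Nat.Prime 2) := ⟨Nat.prime_two⟩
  exact Cfsg.Agent.Lib.H18.SchurPrime.hasCyclicSchurMultiplier_prime 2
    (fun Γ _ _ σ hσ => B.card_ker_dvd σ hσ)
    (Cfsg.Agent.Lib.H25.G24LB.exists_cover B B.card_U (sg 0)⁻¹ (sg 2)⁻¹ (sg 4)⁻¹ sg_exact sg_central
      sg_uW_ne)

end Cfsg.Agent.Lib.H16.G24M
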