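import Cfsg.Agent.Lib.H16.G24M.Glue2

set_option autoImplicit false
set_option maxRecDepth 100000

/-!
# The data on a group isomorphic to `G2(4)` used for its Schur multiplier (helper16)

`Base am bm cm`: three elements of order 13 of a group `G` of order `251596800` such that `am bm` satisfy
the relators of the stage 1 certificate (`U3(4)` over `13`), `am bm cm` satisfy the relators of the stage 2
certificate (`G2(4)` over `U3(4)`) and three more relators (`xL`) which make the three generators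
commutators, and the word `dW` has order 7.
-/

namespace Cfsg.Agent.Lib.H16.G24M

open Cfsg.Agent.Lib.H12.J3M (gl2 wv2 gl3 wv3)

/-- a word `t` in `a b` with `t a t⁻¹ = a ^ 9` -/
def taW : List ℕ := [2, 1, 1, 3, 0, 3, 0, 0, 2, 2]

/-- a word `t` in `a b` with `t b t⁻¹ = b ^ 9` -/
def tbW : List ℕ := [0, 0, 0, 3, 1, 2, 2, 1, 3, 0]

/-- a word `g` in `a b c` with `c = g⁻¹ a g` -/
def w0W : List ℕ := [0, 0, 2, 2, 0, 3, 1, 1, 3, 3, 4, 1, 3, 1, 3, 5, 3]

/-- the inverse letter -/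
def flip3 (x : ℕ) : ℕ :=
  match x with
  | 0 => 1 | 1 => 0 | 2 => 3 | 3 => 2 | 4 => 5 | 5 => 4 | k => k

/-- the inverse word -/
def invW3 (w : List ℕ) : List ℕ := (w.map flip3).reverse

/-- the relator `t a t⁻¹ a⁻⁹` -/
def xaW : List ℕ := taW ++ ([0] ++ (invW3 taW ++ List.replicate 9 1))

/-- the relator `t b t⁻¹ b⁻⁹` -/
def xbW : List ℕ := tbW ++ ([2] ++ (invW3 tbW ++ List.replicate 9 3))

/-- the relator `g⁻¹ a g c⁻¹` -/
def xcW : List ℕ := invW3 w0W ++ ([0] ++ (w0W ++ [5]))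

/-- the three additional exact relators -/
def xL : List (List ℕ) := [xaW, xbW, xcW]

theorem xL_eq : xL = [[2, 1, 1, 3, 0, 3, 0, 0, 2, 2, 0, 3, 3, 1, 1, 2, 1, 2, 0, 0, 3, 1, 1, 1, 1, 1, 1, 1, 1, 1],
    [0, 0, 0, 3, 1, 2, 2, 1, 3, 0, 2, 1, 2, 0, 3, 3, 0, 2, 1, 1, 1, 3, 3, 3, 3, 3, 3, 3, 3, 3],
    [2, 4, 2, 0, 2, 0, 5, 2, 2, 0, 0, 2, 1, 3, 3, 1, 1, 0, 0, 0, 2, 2, 0, 3, 1, 1, 3, 3, 4, 1, 3, 1, 3, 5, 3, 5]] := by
  decide

/-- the squares of the symbol relators -/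
def sqL : List (List ℕ) := C2.symL.map fun w => w ++ w

/-- the exact relators of the presentation of the double cover -/
def PE : List (List ℕ) := C2.exactL ++ ((C1.symL ++ C1.cenL) ++ (xL ++ sqL))

/-- the central relators of the presentation of the double cover -/
def ZL : List (List ℕ) := C2.symL ++ C2.cenL

/-- the word of an element of order 7 -/
def dW : List ℕ := [0, 3, 5]

/-- words in `a b c` for the six involutions `RT0 … RT5` generating the permutation group `P2` of helper17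
(`Lib/H17/G2Chain`); with the letters of `tools/blueprints/S2102.md` the word `rtW k ++ [RT k]` acts
trivially -/
def rtW : ℕ → List ℕ
  | 0 => [0, 0, 2, 2, 0, 3, 1, 1, 3, 3, 4, 1, 3, 1, 3, 5, 3]
  | 1 => [1, 1, 1, 1, 3, 0, 2, 1, 3, 3, 5, 3, 4, 1, 2, 4]
  | 2 => [0, 0, 0, 3, 0, 0, 0, 5, 0, 5, 2, 4]
  | 3 => [3, 0, 3, 0, 2, 0, 0, 0, 0, 4, 2, 0, 0, 5, 0, 4]
  | 4 => [1, 2, 0, 0, 3, 0, 3, 1, 2, 0, 4, 4, 1, 2, 2, 4]
  | 5 => [2, 1, 3, 3, 3, 0, 3, 1, 3, 4, 4, 4, 2, 0, 5]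
  | _ => []

section

variable {Γ : Type*} [Group Γ] (x y z : Γ)

theorem gl3_flip3 (i : ℕ) : gl3 x y z (flip3 i) = (gl3 x y z i)⁻¹ := by
  rcases i with _ | _ | _ | _ | _ | _ | n
  · rfl
  · exact (inv_inv x).symm
  · rfl
  · exact (inv_inv y).symm
  · rfl
  · exact (inv_inv z).symm
  · have h1 : flip3 (n + 6) = n + 6 := rfl
    have h2 : gl3 x y z (n + 6) = 1 := rfl
    rw [h1, h2, inv_one]

theorem wv3_append (u v : List ℕ) : wv3 x y z (u ++ v) = wv3 x y z u * wv3 x y z v := by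
  unfold wv3
  rw [List.map_append, List.prod_append]

theorem wv3_invW3 (w : List ℕ) : wv3 x y z (invW3 w) = (wv3 x y z w)⁻¹ := by
  induction w with
  | nil => simp [invW3, wv3]
  | cons i w ih =>
    have e : invW3 (i :: w) = invW3 w ++ [flip3 i] := by
      unfold invW3
      rw [List.map_cons, List.reverse_cons]
    rw [e, wv3_append, ih]
    unfold wv3
    rw [List.map_cons, List.map_cons, List.map_nil, List.prod_cons, List.prod_cons, List.prod_nil, mul_one,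
      gl3_flip3, mul_inv_rev]

theorem wv3_replicate0 (n : ℕ) : wv3 x y z (List.replicate n 0) = x ^ n := by
  unfold wv3
  rw [List.map_replicate, List.prod_replicate]
  rfl

theorem wv3_replicate1 (n : ℕ) : wv3 x y z (List.replicate n 1) = (x ^ n)⁻¹ := by
  unfold wv3
  rw [List.map_replicate, List.prod_replicate, ← inv_pow]
  rfl

theorem wv3_replicate2 (n : ℕ) : wv3 x y z (List.replicate n 2) = y ^ n := by
  unfold wv3
  rw [List.map_replicate, List.prod_replicate]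
  rfl

theorem wv3_replicate3 (n : ℕ) : wv3 x y z (List.replicate n 3) = (y ^ n)⁻¹ := by
  unfold wv3
  rw [List.map_replicate, List.prod_replicate, ← inv_pow]
  rfl

theorem wv3_replicate4 (n : ℕ) : wv3 x y z (List.replicate n 4) = z ^ n := by
  unfold wv3
  rw [List.map_replicate, List.prod_replicate]
  rfl

/-- the relator `xaW` says `t a t⁻¹ = a ^ 9` -/
theorem xaW_iff : wv3 x y z xaW = 1 ↔ wv3 x y z taW * x * (wv3 x y z taW)⁻¹ = x ^ 9 := by
  have h0 : wv3 x y z [0] = x := by simp [wv3, gl3]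
  have e : wv3 x y z xaW = (wv3 x y z taW * x * (wv3 x y z taW)⁻¹) * (x ^ 9)⁻¹ := by
    unfold xaW
    rw [wv3_append, wv3_append, wv3_append, wv3_invW3, wv3_replicate1, h0]; group
  rw [e, mul_inv_eq_one]

/-- the relator `xbW` says `t b t⁻¹ = b ^ 9` -/
theorem xbW_iff : wv3 x y z xbW = 1 ↔ wv3 x y z tbW * y * (wv3 x y z tbW)⁻¹ = y ^ 9 := by
  have h0 : wv3 x y z [2] = y := by simp [wv3, gl3]
  have e : wv3 x y z xbW = (wv3 x y z tbW * y * (wv3 x y z tbW)⁻¹) * (y ^ 9)⁻¹ := by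
    unfold xbW
    rw [wv3_append, wv3_append, wv3_append, wv3_invW3, wv3_replicate3, h0]; group
  rw [e, mul_inv_eq_one]

/-- the relator `xcW` says `c = g⁻¹ a g` -/
theorem xcW_iff : wv3 x y z xcW = 1 ↔ (wv3 x y z w0W)⁻¹ * x * wv3 x y z w0W = z := by
  have h0 : wv3 x y z [0] = x := by simp [wv3, gl3]
  have h5 : wv3 x y z [5] = z⁻¹ := by simp [wv3, gl3]
  have e : wv3 x y z xcW = ((wv3 x y z w0W)⁻¹ * x * wv3 x y z w0W) * z⁻¹ := by
    unfold xcW
    rw [wv3_append, wv3_append, wv3_append, wv3_invW3, h0, h5]; group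
  rw [e, mul_inv_eq_one]

end

/-- the data on the group `G` -/
structure Base {G : Type*} [Group G] (am bm cm : G) : Prop where
  rel1 : ∀ w ∈ C1.exactL ++ (C1.symL ++ C1.cenL), wv2 am bm w = 1
  rel2 : ∀ w ∈ C2.exactL ++ (C2.symL ++ C2.cenL), wv3 am bm cm w = 1
  relx : ∀ w ∈ xL, wv3 am bm cm w = 1
  gen : Subgroup.closure {am, bm, cm} = ⊤
  card : Nat.card G = 251596800
  a_ne : am ≠ 1
  d7 : (wv3 am bm cm dW) ^ 7 = 1
  d_ne : wv3 am bm cm dW ≠ 1

end Cfsg.Agent.Lib.H16.G24M
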