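import Cfsg.Agent.Lib.H12.J3M.GlueBase
import Cfsg.Agent.Lib.H16.G24M.C1.Run
import Cfsg.Agent.Lib.H16.G24M.C1.Lists
import Cfsg.Agent.Lib.H16.G24M.C1.Alg

set_option autoImplicit false
set_option maxRecDepth 100000

/-!
# Stage 1: the monomial certificate of `U3(4) = ⟨a, b⟩` over `⟨a⟩` (helper16)

`Setting1 ga gb A`: `ga ^ 13 = gb ^ 13 = 1`, all other relators have values in the central subgroup `A` of
exponent dividing `2764800`, which meets `⟨ga⟩` trivially, and `ga gb` generate.  Conclusion: `⟨ga⟩` has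
at most `4800` cosets.
-/

namespace Cfsg.Agent.Lib.H16.G24M

open Cfsg.Agent.Lib.H17.CosetCert (WT act)
open Cfsg.Agent.Lib.H17.MonoCert
open Cfsg.Agent.Lib.H12.J3M (gl2 wv2 gl3 wv3 act_inv commGroupOfCentral smulComm_of_central
  free_of_disj)

section additive

/-- the additive form of `ntw` -/
def nsum {M : Type*} [AddCommGroup M] : List M → List ℕ → M
  | [], _ => 0
  | _, [] => 0
  | a :: as, e :: t => (e : ℤ) • a + nsum as t

theorem ofMul_ntw {A : Type*} [CommGroup A] (ζs : List A) (t : List ℕ) :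
    Additive.ofMul (ntw ζs t) = nsum (ζs.map Additive.ofMul) t := by
  induction ζs generalizing t with
  | nil => simp [ntw, nsum]
  | cons ζ ζs ih =>
    cases t with
    | nil => simp [ntw, nsum]
    | cons e t =>
      rw [ntw_cons, List.map_cons]
      change _ = (e : ℤ) • Additive.ofMul ζ + nsum (ζs.map Additive.ofMul) t
      rw [← ih, ofMul_mul, ofMul_pow, natCast_zsmul]

theorem nsum_eq_zero {A : Type*} [CommGroup A] (ζs : List A) (t : List ℕ) (h : ntw ζs t = 1) :
    nsum (ζs.map Additive.ofMul) t = 0 := by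
  rw [← ofMul_ntw, h]; rfl

theorem zsmul_ofMul_eq_zero {A : Type*} [CommGroup A] (z : A) (n : ℕ) (h : z ^ n = 1) :
    (n : ℤ) • Additive.ofMul z = 0 := by
  rw [natCast_zsmul, ← ofMul_pow, h]; rfl

theorem ntw_eq_one_of_all_one {A : Type*} [CommGroup A] (ζs : List A) (h : ∀ a ∈ ζs, a = 1)
    (t : List ℕ) : ntw ζs t = 1 := by
  have h1 := ntw_mem_closure ζs t
  have h2 : Subgroup.closure {a : A | a ∈ ζs} ≤ ⊥ := by
    rw [Subgroup.closure_le]
    intro a ha
    rw [h a ha]
    exact Subgroup.mem_bot.mpr rfl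
  exact Subgroup.mem_bot.mp (h2 h1)

theorem ntw_mem_zpowers {A : Type*} [CommGroup A] (ζs : List A) (g : A)
    (h : ∀ a ∈ ζs, a ∈ Subgroup.zpowers g) (t : List ℕ) : ntw ζs t ∈ Subgroup.zpowers g := by
  have h1 := ntw_mem_closure ζs t
  have h2 : Subgroup.closure {a : A | a ∈ ζs} ≤ Subgroup.zpowers g := by
    rw [Subgroup.closure_le]
    intro a ha
    exact h a ha
  exact h2 h1

end additive

section

variable {Γ : Type*} [Group Γ] (ga gb : Γ)

/-- the hypotheses on the group -/
structure Setting1 (A : Subgroup Γ) : Prop where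
  central : A ≤ Subgroup.center Γ
  disj : ∀ x ∈ Subgroup.closure {ga}, x ∈ A → x = 1
  exact : ∀ w ∈ C1.exactL, wv2 ga gb w = 1
  rel : ∀ w ∈ C1.symL ++ C1.cenL, wv2 ga gb w ∈ A
  gen : Subgroup.closure {ga, gb} = ⊤
  tors : ∀ z ∈ A, z ^ 2764800 = 1

theorem wv2_pair1 : ∀ w ∈ C1.pairL, wv2 ga gb w = 1 := by
  intro w hw
  simp only [C1.pairL, List.mem_cons, List.not_mem_nil, or_false] at hw
  rcases hw with rfl | rfl | rfl | rfl <;> simp [wv2, gl2]

variable {ga gb}

theorem Setting1.rel_all {A : Subgroup Γ} (S : Setting1 ga gb A) :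
    ∀ w ∈ C1.relL, wv2 ga gb w ∈ A := by
  intro w hw
  rcases C1.rel_cases w hw with h | h
  · rcases List.mem_append.mp h with h1 | h1
    · rw [S.exact w h1]; exact one_mem _
    · rw [wv2_pair1 ga gb w h1]; exact one_mem _
  · exact S.rel w h

end

section main

variable {Γ : Type*} [Group Γ] {ga gb : Γ} {A : Subgroup Γ}

open Classical in
/-- the inverse of the value of a word, as an element of `A` (`1` if the value is not in `A`) -/
noncomputable def ρA1 (ga gb : Γ) (A : Subgroup Γ) (w : List ℕ) : A :=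
  if h : wv2 ga gb w ∈ A then ⟨(wv2 ga gb w)⁻¹, A.inv_mem h⟩ else 1

theorem ρA1_coe (w : List ℕ) (h : wv2 ga gb w ∈ A) :
    ((ρA1 ga gb A w : A) : Γ) = (wv2 ga gb w)⁻¹ := by
  unfold ρA1
  rw [dif_pos h]

theorem gens_top1 (S : Setting1 ga gb A) :
    Subgroup.closure {g : Γ | ∃ x < 4, g = (gl2 ga gb x)⁻¹} = ⊤ := by
  rw [eq_top_iff, ← S.gen, Subgroup.closure_le]
  intro g hg
  simp only [Set.mem_insert_iff, Set.mem_singleton_iff] at hg
  apply Subgroup.subset_closure
  rcases hg with rfl | rfl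
  · exact ⟨1, by norm_num, by simp [gl2]⟩
  · exact ⟨3, by norm_num, by simp [gl2]⟩

theorem letters_inv1 : ∀ x < 4, ∃ y < 4, (gl2 ga gb y)⁻¹ = ((gl2 ga gb x)⁻¹)⁻¹ := by
  intro x hx
  interval_cases x
  · exact ⟨1, by norm_num, by simp [gl2]⟩
  · exact ⟨0, by norm_num, by simp [gl2]⟩
  · exact ⟨3, by norm_num, by simp [gl2]⟩
  · exact ⟨2, by norm_num, by simp [gl2]⟩

/-- the list of the symbol values -/
noncomputable def ζs1 (ga gb : Γ) (A : Subgroup Γ) : List A := C1.symL.map (ρA1 ga gb A)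

theorem wordsOK1 (S : Setting1 ga gb A) :
    letI := commGroupOfCentral A S.central
    haveI := smulComm_of_central A (Subgroup.closure {ga}) S.central
    WordsOK C1.Ev (ntw (ζs1 ga gb A)) (fun x => (gl2 ga gb x)⁻¹)
      (((1 : Γ) : Γ ⧸ Subgroup.closure {ga})) C1.words 12 := by
  let _ := commGroupOfCentral A S.central
  intro w wd r hget
  have hm := WT.get_mem C1.words w (wd, r) hget
  obtain ⟨h1, h2⟩ := C1.words_mem _ hm
  refine ⟨fun hr => ?_, fun hr hw => ?_, fun hr => ?_⟩
  · have hA := S.rel_all wd (h1 hr)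
    refine ⟨⟨(wv2 ga gb wd)⁻¹, A.inv_mem hA⟩, fun q => ?_⟩
    rw [act_inv]
    rfl
  · subst hr
    have hs := C1.seed_mem w hw
    unfold C1.seedChk at hs
    rw [hget] at hs
    simp only [decide_eq_true_eq] at hs
    intro q
    rw [act_inv]
    rcases C1.seed_cases _ hs with ⟨he, hmem⟩ | hz
    · simp only [] at he hmem
      have hv : wv2 ga gb wd = 1 := by
        rcases List.mem_append.mp hmem with h | h
        · exact S.exact wd h
        · exact wv2_pair1 ga gb wd h
      change (wv2 ga gb wd)⁻¹ • q = _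
      rw [hv, he, ntw_replicate_zero, inv_one, one_smul, one_smul]
    · simp only [C1.symL, C1.unitL, List.zip_cons_cons, List.zip_nil_right, List.mem_cons,
        Prod.mk.injEq, List.not_mem_nil, or_false] at hz
      have key : ∀ wd' (hwd : wd' ∈ C1.symL ++ C1.cenL) (e : List ℕ),
          ntw (ζs1 ga gb A) e = ρA1 ga gb A wd' → wd = wd' → C1.Ev w = e →
          ((List.map (gl2 ga gb) wd).prod)⁻¹ • q = ntw (ζs1 ga gb A) (C1.Ev w) • q := by
        intro wd' hwd e he hw1 hw2
        rw [hw2, he, hw1]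
        change _ = ((ρA1 ga gb A wd' : A) : Γ) • q
        rw [ρA1_coe wd' (S.rel wd' hwd)]
        rfl
      rcases hz with ⟨a, b⟩ | ⟨a, b⟩ | ⟨a, b⟩ | ⟨a, b⟩ | ⟨a, b⟩
      · exact key _ (by decide) _ (by simp [ζs1, C1.symL, ntw]) a b
      · exact key _ (by decide) _ (by simp [ζs1, C1.symL, ntw]) a b
      · exact key _ (by decide) _ (by simp [ζs1, C1.symL, ntw]) a b
      · exact key _ (by decide) _ (by simp [ζs1, C1.symL, ntw]) a b
      · exact key _ (by decide) _ (by simp [ζs1, C1.symL, ntw]) a b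
  · have hsub := h2 hr
    rw [act_inv]
    have hmem : (List.map (gl2 ga gb) wd).prod ∈ Subgroup.closure {ga} := by
      simp only [C1.subL, List.mem_cons, List.not_mem_nil, or_false] at hsub
      subst hsub
      simp only [List.map_cons, List.map_nil, List.prod_cons, List.prod_nil, mul_one, gl2]
      exact Subgroup.subset_closure (by simp)
    rw [MulAction.Quotient.smul_mk, QuotientGroup.eq]
    simpa using hmem

end main

section final

variable {Γ : Type*} [Group Γ] {ga gb : Γ} {A : Subgroup Γ}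

/-- **Main theorem of the stage 1 certificate.** -/
theorem mono_main1 (S : Setting1 ga gb A) :
    Finite (Γ ⧸ Subgroup.closure {ga}) ∧ Nat.card (Γ ⧸ Subgroup.closure {ga}) ≤ 4800 := by
  let _ := commGroupOfCentral A S.central
  have := smulComm_of_central A (Subgroup.closure {ga}) S.central
  set Q := Γ ⧸ Subgroup.closure {ga} with hQ
  set q0 : Q := ((1 : Γ) : Q) with hq0
  set tw : List ℕ → A := ntw (ζs1 ga gb A) with htw_def
  set γ : ℕ → Γ := fun x => (gl2 ga gb x)⁻¹ with hγ
  have hAN : ∀ z : A, z ^ 2764800 = 1 := by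
    intro z
    apply Subtype.ext
    rw [Subgroup.coe_pow]
    exact S.tors _ z.2
  have htw : TwOK (nadd C1.NN) (List.replicate 5 0) neq tw :=
    ntw_ok C1.NN _ (fun ζ _ => hAN ζ) 5
  have hfree : ∀ (α β : A) (q : Q), α • q = β • q → α = β :=
    free_of_disj A (Subgroup.closure {ga}) S.central S.disj
  have hw := wordsOK1 S
  have hI := C1.run tw γ hfree htw q0 hw
  obtain ⟨c, hc0, hwords, hcov⟩ := covered C1.F C1.Ev 4 65536 tw γ q0 C1.words 19200 4800 27
    hI C1.rows C1.rows_ok C1.rows_length (gens_top1 S) letters_inv1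
  -- the relations
  have hrel : ∀ p ∈ C1.relPairs, tw p.2.2 = 1 := by
    intro p hp
    have hchk := C1.rel_chk p hp
    unfold C1.relChk at hchk
    rcases h1 : WT.get C1.words p.1 with _ | ⟨wd1, r1⟩
    · rw [h1] at hchk; exact absurd hchk (by simp)
    · rcases h2 : WT.get C1.words p.2.1 with _ | ⟨wd2, r2⟩
      · rw [h1, h2] at hchk
        cases r1 <;> exact absurd hchk (by simp)
      · rw [h1, h2] at hchk
        cases r1 with
        | false => exact absurd hchk (by simp)
        | true =>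
          cases r2 with
          | false => exact absurd hchk (by simp)
          | true =>
            simp only [Bool.and_eq_true, decide_eq_true_eq] at hchk
            obtain ⟨⟨⟨hwd, hev⟩, hlt1⟩, hlt2⟩ := hchk
            subst hwd
            have e1 := hwords p.1 hlt1 wd1 h1 q0
            have e2 := hwords p.2.1 hlt2 wd1 h2 q0
            have e3 : tw (C1.Ev p.1) = tw (C1.Ev p.2.1) := hfree _ _ q0 (e1.symm.trans e2)
            rw [hev, htw.add] at e3
            exact (mul_eq_left.mp e3.symm)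
  have hR : ∀ v ∈ C1.relPairs.map (fun p => p.2.2),
      nsum ((ζs1 ga gb A).map Additive.ofMul) v = 0 := by
    intro v hv
    obtain ⟨p, hp, rfl⟩ := List.mem_map.mp hv
    exact nsum_eq_zero _ _ (hrel p hp)
  -- every symbol is trivial
  have hζ : ζs1 ga gb A = [ρA1 ga gb A [1, 1, 2, 1, 1, 2, 2, 1, 2, 2],
      ρA1 ga gb A [1, 2, 1, 2, 1, 2, 1, 2, 1, 2],
      ρA1 ga gb A [1, 3, 1, 3, 1, 2, 0, 2, 0, 2],
      ρA1 ga gb A [1, 3, 1, 3, 1, 3, 1, 3, 1, 3],
      ρA1 ga gb A [1, 1, 1, 1, 2, 2, 2, 2, 1, 1, 3, 0, 2, 2]] := rfl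
  rw [hζ] at hR
  have hn : ∀ z : A, (2764800 : ℤ) • Additive.ofMul z = 0 := fun z =>
    zsmul_ofMul_eq_zero z 2764800 (hAN z)
  obtain ⟨k0, k1, k2, k3, k4⟩ := C1.rel_alg_add _ _ _ _ _ (hn _) (hn _) (hn _) (hn _) (hn _)
    (hR [2764799, 0, 0, 0, 1] (by decide)) (hR [2764798, 2, 0, 0, 0] (by decide))
    (hR [1, 1, 0, 0, 2764798] (by decide)) (hR [0, 0, 2, 0, 2764797] (by decide))
    (hR [0, 2764798, 2764797, 0, 0] (by decide)) (hR [2, 0, 2764798, 2764787, 1] (by decide))
  have hall : ∀ a ∈ ζs1 ga gb A, a = 1 := by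
    intro a ha
    rw [hζ] at ha
    simp only [List.mem_cons, List.not_mem_nil, or_false] at ha
    rcases ha with rfl | rfl | rfl | rfl | rfl
    · exact Additive.ofMul.injective k0
    · exact Additive.ofMul.injective k1
    · exact Additive.ofMul.injective k2
    · exact Additive.ofMul.injective k3
    · exact Additive.ofMul.injective k4
  have htriv : ∀ α ∈ Subgroup.closure (Set.range tw), α = 1 := by
    intro α hα
    have hle : Subgroup.closure (Set.range tw) ≤ ⊥ := by
      rw [Subgroup.closure_le]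
      rintro _ ⟨t, rfl⟩
      exact Subgroup.mem_bot.mpr (ntw_eq_one_of_all_one _ hall t)
    exact Subgroup.mem_bot.mp (hle hα)
  let f : Fin 4800 → Q := fun p => c p
  have hf : Function.Surjective f := by
    intro q
    obtain ⟨i, hi, α, hα, rfl⟩ := hcov q
    refine ⟨⟨i, hi⟩, ?_⟩
    rw [htriv α hα, one_smul]
  refine ⟨Finite.of_surjective f hf, ?_⟩
  have := Nat.card_le_card_of_surjective f hf
  rwa [Nat.card_fin] at this

end final

end Cfsg.Agent.Lib.H16.G24M
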