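import Cfsg.Agent.Lib.H16.G24M.Glue1
import Cfsg.Agent.Lib.H16.G24M.C2.Run
import Cfsg.Agent.Lib.H16.G24M.C2.Lists
import Cfsg.Agent.Lib.H16.G24M.C2.Alg

set_option autoImplicit false
set_option maxRecDepth 100000

/-!
# Stage 2: the monomial certificate of `G2(4) = ⟨a, b, c⟩` over `U3(4) = ⟨a, b⟩` (helper16)

`Setting2 ga gb gc A`: the exact relators hold for `ga gb gc`, all other relators have values in the
central subgroup `A` of exponent dividing `2764800`, which meets `⟨ga, gb⟩` trivially, and `ga gb gc`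
generate.  Conclusion: the inverse `g` of the value of the first symbol relator satisfies `g ^ 2 = 1` and
`⟨ga, gb⟩` has at most `4032 * orderOf g` cosets.
-/

namespace Cfsg.Agent.Lib.H16.G24M

open Cfsg.Agent.Lib.H17.CosetCert (WT act)
open Cfsg.Agent.Lib.H17.MonoCert
open Cfsg.Agent.Lib.H12.J3M (gl2 wv2 gl3 wv3 act_inv commGroupOfCentral smulComm_of_central
  free_of_disj)

/-- the word of the central involution (its value is the inverse of the involution) -/
def uW : List ℕ := [1, 3, 5, 3, 1, 2, 2, 2, 5, 5, 2, 2, 2]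

section

variable {Γ : Type*} [Group Γ] (ga gb gc : Γ)

/-- the hypotheses on the group -/
structure Setting2 (A : Subgroup Γ) : Prop where
  central : A ≤ Subgroup.center Γ
  disj : ∀ x ∈ Subgroup.closure {ga, gb}, x ∈ A → x = 1
  exact : ∀ w ∈ C2.exactL, wv3 ga gb gc w = 1
  rel : ∀ w ∈ C2.symL ++ C2.cenL, wv3 ga gb gc w ∈ A
  gen : Subgroup.closure {ga, gb, gc} = ⊤
  tors : ∀ w ∈ C2.symL, (wv3 ga gb gc w) ^ 2764800 = 1

theorem wv3_pair2 : ∀ w ∈ C2.pairL, wv3 ga gb gc w = 1 := by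
  intro w hw
  simp only [C2.pairL, List.mem_cons, List.not_mem_nil, or_false] at hw
  rcases hw with rfl | rfl | rfl | rfl | rfl | rfl <;> simp [wv3, gl3]

variable {ga gb gc}

theorem Setting2.rel_all {A : Subgroup Γ} (S : Setting2 ga gb gc A) :
    ∀ w ∈ C2.relL, wv3 ga gb gc w ∈ A := by
  intro w hw
  rcases C2.rel_cases w hw with h | h
  · rcases List.mem_append.mp h with h1 | h1
    · rw [S.exact w h1]; exact one_mem _
    · rw [wv3_pair2 ga gb gc w h1]; exact one_mem _
  · exact S.rel w h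

end

section main

variable {Γ : Type*} [Group Γ] {ga gb gc : Γ} {A : Subgroup Γ}

open Classical in
/-- the inverse of the value of a word, as an element of `A` (`1` if the value is not in `A`) -/
noncomputable def ρA2 (ga gb gc : Γ) (A : Subgroup Γ) (w : List ℕ) : A :=
  if h : wv3 ga gb gc w ∈ A then ⟨(wv3 ga gb gc w)⁻¹, A.inv_mem h⟩ else 1

theorem ρA2_coe (w : List ℕ) (h : wv3 ga gb gc w ∈ A) :
    ((ρA2 ga gb gc A w : A) : Γ) = (wv3 ga gb gc w)⁻¹ := by
  unfold ρA2
  rw [dif_pos h]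

theorem gens_top2 (S : Setting2 ga gb gc A) :
    Subgroup.closure {g : Γ | ∃ x < 6, g = (gl3 ga gb gc x)⁻¹} = ⊤ := by
  rw [eq_top_iff, ← S.gen, Subgroup.closure_le]
  intro g hg
  simp only [Set.mem_insert_iff, Set.mem_singleton_iff] at hg
  apply Subgroup.subset_closure
  rcases hg with rfl | rfl | rfl
  · exact ⟨1, by norm_num, by simp [gl3]⟩
  · exact ⟨3, by norm_num, by simp [gl3]⟩
  · exact ⟨5, by norm_num, by simp [gl3]⟩

theorem letters_inv2 : ∀ x < 6, ∃ y < 6, (gl3 ga gb gc y)⁻¹ = ((gl3 ga gb gc x)⁻¹)⁻¹ := by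
  intro x hx
  interval_cases x
  · exact ⟨1, by norm_num, by simp [gl3]⟩
  · exact ⟨0, by norm_num, by simp [gl3]⟩
  · exact ⟨3, by norm_num, by simp [gl3]⟩
  · exact ⟨2, by norm_num, by simp [gl3]⟩
  · exact ⟨5, by norm_num, by simp [gl3]⟩
  · exact ⟨4, by norm_num, by simp [gl3]⟩

/-- the list of the symbol values -/
noncomputable def ζs2 (ga gb gc : Γ) (A : Subgroup Γ) : List A := C2.symL.map (ρA2 ga gb gc A)

theorem wordsOK2 (S : Setting2 ga gb gc A) :
    letI := commGroupOfCentral A S.central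
    haveI := smulComm_of_central A (Subgroup.closure {ga, gb}) S.central
    WordsOK C2.Ev (ntw (ζs2 ga gb gc A)) (fun x => (gl3 ga gb gc x)⁻¹)
      (((1 : Γ) : Γ ⧸ Subgroup.closure {ga, gb})) C2.words 50 := by
  let _ := commGroupOfCentral A S.central
  intro w wd r hget
  have hm := WT.get_mem C2.words w (wd, r) hget
  obtain ⟨h1, h2⟩ := C2.words_mem _ hm
  refine ⟨fun hr => ?_, fun hr hw => ?_, fun hr => ?_⟩
  · have hA := S.rel_all wd (h1 hr)
    refine ⟨⟨(wv3 ga gb gc wd)⁻¹, A.inv_mem hA⟩, fun q => ?_⟩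
    rw [act_inv]
    rfl
  · subst hr
    have hs := C2.seed_mem w hw
    unfold C2.seedChk at hs
    rw [hget] at hs
    simp only [decide_eq_true_eq] at hs
    intro q
    rw [act_inv]
    rcases C2.seed_cases _ hs with ⟨he, hmem⟩ | hz
    · simp only [] at he hmem
      have hv : wv3 ga gb gc wd = 1 := by
        rcases List.mem_append.mp hmem with h | h
        · exact S.exact wd h
        · exact wv3_pair2 ga gb gc wd h
      change (wv3 ga gb gc wd)⁻¹ • q = _
      rw [hv, he, ntw_replicate_zero, inv_one, one_smul, one_smul]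
    · simp only [C2.symL, C2.unitL, List.zip_cons_cons, List.zip_nil_right, List.mem_cons,
        Prod.mk.injEq, List.not_mem_nil, or_false] at hz
      have key : ∀ wd' (hwd : wd' ∈ C2.symL ++ C2.cenL) (e : List ℕ),
          ntw (ζs2 ga gb gc A) e = ρA2 ga gb gc A wd' → wd = wd' → C2.Ev w = e →
          ((List.map (gl3 ga gb gc) wd).prod)⁻¹ • q = ntw (ζs2 ga gb gc A) (C2.Ev w) • q := by
        intro wd' hwd e he hw1 hw2
        rw [hw2, he, hw1]
        change _ = ((ρA2 ga gb gc A wd' : A) : Γ) • q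
        rw [ρA2_coe wd' (S.rel wd' hwd)]
        rfl
      rcases hz with ⟨a, b⟩ | ⟨a, b⟩ | ⟨a, b⟩ | ⟨a, b⟩ | ⟨a, b⟩ | ⟨a, b⟩ | ⟨a, b⟩ | ⟨a, b⟩
      · exact key _ (by decide) _ (by simp [ζs2, C2.symL, ntw]) a b
      · exact key _ (by decide) _ (by simp [ζs2, C2.symL, ntw]) a b
      · exact key _ (by decide) _ (by simp [ζs2, C2.symL, ntw]) a b
      · exact key _ (by decide) _ (by simp [ζs2, C2.symL, ntw]) a b
      · exact key _ (by decide) _ (by simp [ζs2, C2.symL, ntw]) a b
      · exact key _ (by decide) _ (by simp [ζs2, C2.symL, ntw]) a b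
      · exact key _ (by decide) _ (by simp [ζs2, C2.symL, ntw]) a b
      · exact key _ (by decide) _ (by simp [ζs2, C2.symL, ntw]) a b
  · have hsub := h2 hr
    rw [act_inv]
    have hmem : (List.map (gl3 ga gb gc) wd).prod ∈ Subgroup.closure {ga, gb} := by
      simp only [C2.subL, List.mem_cons, List.not_mem_nil, or_false] at hsub
      rcases hsub with rfl | rfl
      · simp only [List.map_cons, List.map_nil, List.prod_cons, List.prod_nil, mul_one, gl3]
        exact Subgroup.subset_closure (by simp)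
      · simp only [List.map_cons, List.map_nil, List.prod_cons, List.prod_nil, mul_one, gl3]
        exact Subgroup.subset_closure (by simp)
    rw [MulAction.Quotient.smul_mk, QuotientGroup.eq]
    simpa using hmem

end main

section final

variable {Γ : Type*} [Group Γ] {ga gb gc : Γ} {A : Subgroup Γ}

/-- **Main theorem of the stage 2 certificate.** -/
theorem mono_main2 (S : Setting2 ga gb gc A) :
    (wv3 ga gb gc uW)⁻¹ ∈ A ∧ ((wv3 ga gb gc uW)⁻¹) ^ 2 = 1 ∧
      Finite (Γ ⧸ Subgroup.closure {ga, gb}) ∧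
      Nat.card (Γ ⧸ Subgroup.closure {ga, gb}) ≤ 4032 * orderOf ((wv3 ga gb gc uW)⁻¹) := by
  let _ := commGroupOfCentral A S.central
  have := smulComm_of_central A (Subgroup.closure {ga, gb}) S.central
  have humem : wv3 ga gb gc uW ∈ A := S.rel uW (by decide)
  set Q := Γ ⧸ Subgroup.closure {ga, gb} with hQ
  set q0 : Q := ((1 : Γ) : Q) with hq0
  set tw : List ℕ → A := ntw (ζs2 ga gb gc A) with htw_def
  set γ : ℕ → Γ := fun x => (gl3 ga gb gc x)⁻¹ with hγ
  have hζN : ∀ ζ ∈ ζs2 ga gb gc A, ζ ^ C2.NN = 1 := by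
    intro ζ hζ
    obtain ⟨w, hw, rfl⟩ := List.mem_map.mp hζ
    apply Subtype.ext
    rw [Subgroup.coe_pow, ρA2_coe w (S.rel w (List.mem_append_left _ hw)), inv_pow, S.tors w hw]
    simp
  have htw : TwOK (nadd C2.NN) (List.replicate 8 0) neq tw := ntw_ok C2.NN _ hζN 8
  have hfree : ∀ (α β : A) (q : Q), α • q = β • q → α = β :=
    free_of_disj A (Subgroup.closure {ga, gb}) S.central S.disj
  have hw := wordsOK2 S
  have hI := C2.run tw γ hfree htw q0 hw
  obtain ⟨c, hc0, hwords, hcov⟩ := covered C2.F C2.Ev 6 65536 tw γ q0 C2.words 24192 4032 59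
    hI C2.rows C2.rows_ok C2.rows_length (gens_top2 S) letters_inv2
  -- the relations
  have hrel : ∀ p ∈ C2.relPairs, tw p.2.2 = 1 := by
    intro p hp
    have hchk := C2.rel_chk p hp
    unfold C2.relChk at hchk
    rcases h1 : WT.get C2.words p.1 with _ | ⟨wd1, r1⟩
    · rw [h1] at hchk; exact absurd hchk (by simp)
    · rcases h2 : WT.get C2.words p.2.1 with _ | ⟨wd2, r2⟩
      · rw [h1, h2] at hchk
        cases r1 <;> exact absurd hchk (by simp)
      · rw [h1, h2] at hchk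
        cases r1 with
        | false => exact absurd hchk (by simp)
        | true =>
          cases r2 with
          | false => exact absurd hchk (by simp)
          | true =>
            simp only [Bool.and_eq_true, decide_eq_true_eq] at hchk
            obtain ⟨⟨⟨hwd, hev⟩, hlt1⟩, hlt2⟩ := hchk
            subst hwd
            have e1 := hwords p.1 hlt1 wd1 h1 q0
            have e2 := hwords p.2.1 hlt2 wd1 h2 q0
            have e3 : tw (C2.Ev p.1) = tw (C2.Ev p.2.1) := hfree _ _ q0 (e1.symm.trans e2)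
            rw [hev, htw.add] at e3
            exact (mul_eq_left.mp e3.symm)
  have hR : ∀ v ∈ C2.relPairs.map (fun p => p.2.2),
      nsum ((ζs2 ga gb gc A).map Additive.ofMul) v = 0 := by
    intro v hv
    obtain ⟨p, hp, rfl⟩ := List.mem_map.mp hv
    exact nsum_eq_zero _ _ (hrel p hp)
  have hζ : ζs2 ga gb gc A = [ρA2 ga gb gc A [1, 3, 5, 3, 1, 2, 2, 2, 5, 5, 2, 2, 2],
      ρA2 ga gb gc A [4, 0, 2, 2, 0, 2, 5, 1, 3, 0, 3, 1, 1, 1, 3, 0, 3, 0],
      ρA2 ga gb gc A [1, 1, 1, 1, 3, 4, 3, 3, 0, 3, 1, 2, 1, 1, 3, 0, 4, 3],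
      ρA2 ga gb gc A [3, 4, 3, 4, 3, 4],
      ρA2 ga gb gc A [1, 3, 4, 3, 1, 3, 4, 3, 1, 3, 4, 3],
      ρA2 ga gb gc A [1, 3, 3, 3, 1, 2, 5, 2, 1, 3, 3, 3, 1, 2, 5, 2],
      ρA2 ga gb gc A [1, 1, 1, 3, 1, 1, 3, 0, 0, 5, 3, 1, 1, 2, 1, 3, 1, 4],
      ρA2 ga gb gc A [1, 1, 1, 3, 0, 3, 1, 5, 1, 3, 3, 1, 3, 4, 0, 3, 0, 3]] := rfl
  have hn : ∀ ζ ∈ ζs2 ga gb gc A, (2764800 : ℤ) • Additive.ofMul ζ = 0 := fun z hz =>
    zsmul_ofMul_eq_zero z 2764800 (hζN z hz)
  rw [hζ] at hR hn
  obtain ⟨k0, k1, k2, k3, k4, k5, k6, k7⟩ := C2.rel_alg_add _ _ _ _ _ _ _ _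
    (hn _ (by simp)) (hn _ (by simp)) (hn _ (by simp)) (hn _ (by simp))
    (hn _ (by simp)) (hn _ (by simp)) (hn _ (by simp)) (hn _ (by simp))
    (hR [0, 0, 0, 0, 0, 0, 0, 2764799] (by decide)) (hR [0, 2764799, 0, 0, 0, 0, 0, 0] (by decide)) (hR [0, 0, 0, 0, 0, 0, 2, 0] (by decide)) (hR [0, 0, 2764799, 0, 0, 2764799, 0, 2764799] (by decide)) (hR [0, 2764799, 0, 0, 0, 0, 2764799, 1] (by decide)) (hR [0, 88, 5, 2764799, 3, 8, 0, 8] (by decide)) (hR [2764799, 52, 2764797, 0, 2764799, 2764797, 2, 54] (by decide)) (hR [2764797, 2764693, 2764797, 0, 1, 3, 1, 7] (by decide)) (hR [2764524, 2755776, 2751608, 2764464, 2764105, 2750469, 2758826, 8269] (by decide))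
  set g : A := ρA2 ga gb gc A uW with hg
  have hgcoe : (g : Γ) = (wv3 ga gb gc uW)⁻¹ := ρA2_coe uW humem
  have hg2 : g ^ 2 = 1 := by
    apply Additive.ofMul.injective
    rw [ofMul_pow, ← natCast_zsmul]
    exact k0
  have hall : ∀ a ∈ ζs2 ga gb gc A, a ∈ Subgroup.zpowers g := by
    intro a ha
    rw [hζ] at ha
    simp only [List.mem_cons, List.not_mem_nil, or_false] at ha
    rcases ha with rfl | rfl | rfl | rfl | rfl | rfl | rfl | rfl
    · exact Subgroup.mem_zpowers _
    · rw [Additive.ofMul.injective k1]; exact one_mem _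
    · rw [Additive.ofMul.injective k2]; exact Subgroup.mem_zpowers _
    · rw [Additive.ofMul.injective k3]; exact one_mem _
    · rw [Additive.ofMul.injective k4]; exact Subgroup.mem_zpowers _
    · rw [Additive.ofMul.injective k5]; exact Subgroup.mem_zpowers _
    · rw [Additive.ofMul.injective k6]; exact one_mem _
    · rw [Additive.ofMul.injective k7]; exact one_mem _
  have hpow : ∀ a ∈ Subgroup.closure (Set.range tw), a ∈ Subgroup.zpowers g := by
    intro a ha
    have hle : Subgroup.closure (Set.range tw) ≤ Subgroup.zpowers g := by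
      rw [Subgroup.closure_le]
      rintro _ ⟨t, rfl⟩
      exact ntw_mem_zpowers _ g hall t
    exact hle ha
  have hord : orderOf g ∣ 2 := orderOf_dvd_of_pow_eq_one hg2
  have hopos : 0 < orderOf g := Nat.pos_of_dvd_of_pos hord (by norm_num)
  have hoeq : orderOf (g : Γ) = orderOf g := Subgroup.orderOf_coe g
  let f : Fin 4032 × Fin (orderOf g) → Q := fun p => (g ^ (p.2 : ℕ)) • c p.1
  have hf : Function.Surjective f := by
    intro q
    obtain ⟨i, hi, α, hα, rfl⟩ := hcov q
    obtain ⟨k, rfl⟩ := Subgroup.mem_zpowers_iff.mp (hpow α hα)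
    refine ⟨(⟨i, hi⟩, ⟨(k % (orderOf g : ℤ)).toNat, ?_⟩), ?_⟩
    · have h1 : 0 ≤ k % (orderOf g : ℤ) := Int.emod_nonneg _ (by exact_mod_cast hopos.ne')
      have h2 : k % (orderOf g : ℤ) < orderOf g := Int.emod_lt_of_pos _ (by exact_mod_cast hopos)
      omega
    · have h1 : 0 ≤ k % (orderOf g : ℤ) := Int.emod_nonneg _ (by exact_mod_cast hopos.ne')
      change g ^ ((k % (orderOf g : ℤ)).toNat) • c i = g ^ k • c i
      rw [← zpow_natCast, Int.toNat_of_nonneg h1, zpow_mod_orderOf]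
  rw [← hgcoe]
  refine ⟨g.2, ?_, Finite.of_surjective f hf, ?_⟩
  · rw [← Subgroup.coe_pow, hg2]; rfl
  · have := Nat.card_le_card_of_surjective f hf
    rw [Nat.card_prod, Nat.card_fin, Nat.card_fin] at this
    rw [hoeq]
    exact this

end final

end Cfsg.Agent.Lib.H16.G24M
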