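import Cfsg.Agent.Lib.H17.M22M.MonoCert

set_option autoImplicit false

/-!
# Twists in `(ℤ/N)^k` for monomial coset-enumeration certificates (helper16)

Residue vectors are lists of natural numbers, added componentwise modulo `N`; they act through a list of
commuting elements whose `N`-th powers are trivial.  Also the packed data access for such certificates.
-/

namespace Cfsg.Agent.Lib.H16.G24M

open Cfsg.Agent.Lib.H17.CosetCert (force force_eq BT)
open Cfsg.Agent.Lib.H17.MonoCert

/-- add two residue vectors modulo `N`, the shorter one padded by zeros -/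
noncomputable def nadd (N : ℕ) : List ℕ → List ℕ → List ℕ :=
  List.rec (motive := fun _ => List ℕ → List ℕ) (fun t => t)
    (fun a _ ih t => List.rec (motive := fun _ => List ℕ) (a :: ih [])
      (fun b t' _ => Nat.mod (Nat.add a b) N :: ih t') t)

theorem nadd_nil_left (N : ℕ) (t : List ℕ) : nadd N [] t = t := rfl

theorem nadd_nil_right (N : ℕ) (s : List ℕ) : nadd N s [] = s := by
  induction s with
  | nil => rfl
  | cons a s ih =>
    change a :: nadd N s [] = a :: s
    rw [ih]

theorem nadd_cons (N a b : ℕ) (s t : List ℕ) :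
    nadd N (a :: s) (b :: t) = ((a + b) % N) :: nadd N s t := rfl

/-- equality test of residue vectors -/
def neq (s t : List ℕ) : Bool := decide (s = t)

/-- the element `∏ ζ_i ^ t_i` -/
def ntw {A : Type*} [CommGroup A] : List A → List ℕ → A
  | [], _ => 1
  | _, [] => 1
  | ζ :: ζs, e :: t => ζ ^ e * ntw ζs t

theorem ntw_nil_right {A : Type*} [CommGroup A] (ζs : List A) : ntw ζs [] = 1 := by
  cases ζs <;> rfl

theorem ntw_cons {A : Type*} [CommGroup A] (ζ : A) (ζs : List A) (e : ℕ) (t : List ℕ) :
    ntw (ζ :: ζs) (e :: t) = ζ ^ e * ntw ζs t := rfl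

theorem ntw_add {A : Type*} [CommGroup A] (N : ℕ) (ζs : List A) (hN : ∀ ζ ∈ ζs, ζ ^ N = 1)
    (s t : List ℕ) : ntw ζs (nadd N s t) = ntw ζs s * ntw ζs t := by
  induction ζs generalizing s t with
  | nil => simp [ntw]
  | cons ζ ζs ih =>
    cases s with
    | nil => rw [nadd_nil_left, ntw_nil_right, one_mul]
    | cons a s =>
      cases t with
      | nil => rw [nadd_nil_right, ntw_nil_right, mul_one]
      | cons b t =>
        rw [nadd_cons, ntw_cons, ntw_cons, ntw_cons,
          ih (fun z hz => hN z (List.mem_cons_of_mem _ hz)),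
          ← pow_eq_pow_mod _ (hN ζ List.mem_cons_self), pow_add]
        exact mul_mul_mul_comm _ _ _ _

theorem ntw_replicate_zero {A : Type*} [CommGroup A] (ζs : List A) (k : ℕ) :
    ntw ζs (List.replicate k 0) = 1 := by
  induction ζs generalizing k with
  | nil => simp [ntw]
  | cons ζ ζs ih =>
    cases k with
    | zero => exact ntw_nil_right _
    | succ k =>
      rw [List.replicate_succ, ntw_cons, ih, pow_zero, one_mul]

theorem ntw_ok {A : Type*} [CommGroup A] (N : ℕ) (ζs : List A) (hN : ∀ ζ ∈ ζs, ζ ^ N = 1) (k : ℕ) :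
    TwOK (nadd N) (List.replicate k 0) neq (ntw ζs) where
  zero := ntw_replicate_zero ζs k
  add := ntw_add N ζs hN
  eq := by
    intro s t h
    have : s = t := of_decide_eq_true h
    rw [this]

theorem ntw_mem_closure {A : Type*} [CommGroup A] (ζs : List A) (t : List ℕ) :
    ntw ζs t ∈ Subgroup.closure {a : A | a ∈ ζs} := by
  induction ζs generalizing t with
  | nil => simp [ntw]
  | cons ζ ζs ih =>
    cases t with
    | nil => rw [ntw_nil_right]; exact one_mem _
    | cons e t =>
      rw [ntw_cons]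
      apply mul_mem
      · exact Subgroup.pow_mem _ (Subgroup.subset_closure (by simp)) _
      · exact Subgroup.closure_mono
          (fun a (ha : a ∈ ζs) => (List.mem_cons_of_mem _ ha : a ∈ ζ :: ζs)) (ih t)

/-- decode `k` twist fields of `wb` bits (`Wm = 2 ^ wb`) -/
noncomputable def decTwN (wb Wm : ℕ) (k : ℕ) : ℕ → List ℕ :=
  Nat.rec (motive := fun _ => ℕ → List ℕ) (fun _ => [])
    (fun _ ih tt => Nat.mod tt Wm :: ih (Nat.shiftRight tt wb)) k

/-- facts `((a, x, b), t)` packed `K` to a leaf, each `wd` bits wide: `a` in the low `nb` bits, then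
`b`, then `x` (3 bits), then `k` twist fields of `wb` bits. `W = 2 ^ wd`, `N2 = 2 ^ nb`,
`Wm = 2 ^ wb`. -/
noncomputable def factOfN (t : BT) (h0 K wd W nb N2 wb Wm k : ℕ) (f : ℕ) :
    (ℕ × ℕ × ℕ) × List ℕ :=
  force (BT.get t h0 (Nat.div f K)) fun leaf =>
  force (Nat.mod (Nat.shiftRight leaf (Nat.mul wd (Nat.mod f K))) W) fun e =>
  force (Nat.shiftRight e (Nat.add (Nat.mul 2 nb) 3)) fun tt =>
  ((Nat.mod e N2, Nat.mod (Nat.shiftRight e (Nat.mul 2 nb)) 8, Nat.mod (Nat.shiftRight e nb) N2),
    decTwN wb Wm k tt)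

/-- entry `n` of a list of residue vectors (`[]` beyond the end) -/
noncomputable def lnthN (l : List (List ℕ)) : ℕ → List ℕ :=
  List.rec (motive := fun _ => ℕ → List ℕ) (fun _ => [])
    (fun a _ ih n => Nat.rec (motive := fun _ => List ℕ) a (fun m _ => ih m) n) l

end Cfsg.Agent.Lib.H16.G24M
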