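import Cfsg.Agent.Lib.H16.G24M.Base
import Cfsg.Agent.Lib.H17.M22M.AbsTools
import Cfsg.Agent.Lib.H17.M22M.StemGen
import Cfsg.Agent.Lib.H28.StemTools2

set_option autoImplicit false
set_option maxRecDepth 100000

/-!
# Finite stem extensions of a group with the `G2(4)` data (helper16)

The kernel of every finite stem extension of a group `G` with `Base am bm cm` is generated by an element of
order at most two.  (Two stages, after helper12's `Lib/H12/J3M/Stem.lean`.)
-/

namespace Cfsg.Agent.Lib.H16.G24M

open Subgroup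
open Cfsg.Agent.Lib.H12.J3M (gl2 wv2 gl3 wv3 map_wv2 map_wv3 wv2_mem wv3_eq_wv2 wv2_replicate0
  wv2_replicate2 eq_one_of_pow_coprime)

theorem exact2_cases : ∀ w ∈ C2.exactL, (∀ x ∈ w, x < 4) ∨ w = List.replicate 13 4 := by
  decide

section

variable {G : Type*} [Group G] {am bm cm : G}

theorem Base.finite (B : Base am bm cm) : Finite G :=
  Nat.finite_of_card_ne_zero (by rw [B.card]; norm_num)

theorem Base.a13 (B : Base am bm cm) : am ^ 13 = 1 := by
  have h := B.rel1 (List.replicate 13 0) (by decide)
  rwa [wv2_replicate0] at h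

theorem Base.b13 (B : Base am bm cm) : bm ^ 13 = 1 := by
  have h := B.rel1 (List.replicate 13 2) (by decide)
  rwa [wv2_replicate2] at h

theorem Base.c13 (B : Base am bm cm) : cm ^ 13 = 1 := by
  have h := B.rel2 (List.replicate 13 4) (by decide)
  rwa [wv3_replicate4] at h

theorem orderOf_eq_of_prime3 {K : Type*} [Group K] {g : K} {p : ℕ} (hp : p.Prime) (h1 : g ^ p = 1)
    (h2 : g ≠ 1) : orderOf g = p := by
  have := orderOf_dvd_of_pow_eq_one h1
  rcases (Nat.dvd_prime hp).1 this with h | h
  · exact absurd (orderOf_eq_one_iff.1 h) h2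
  · exact h

theorem Base.index_zpowers (B : Base am bm cm) {g : G} {p : ℕ} (hg : orderOf g = p) :
    (zpowers g).index * p = 251596800 := by
  have := Subgroup.index_mul_card (zpowers g)
  rw [Nat.card_zpowers, hg, B.card] at this
  exact this

/-- the kernel of a finite stem extension has exponent dividing `2764800 = 2^12 * 3^3 * 5^2` -/
theorem Base.ker_pow (B : Base am bm cm) {Γ : Type*} [Group Γ] [Finite Γ] (σ : Γ →* G)
    (hσ : Cfsg.IsStemExtension σ) : ∀ z ∈ σ.ker, z ^ 2764800 = 1 := by
  intro z hz
  have h1 : z ^ 251596800 = 1 := by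
    rw [← B.card]; exact Cfsg.Agent.Lib.H17.M22M.pow_card_eq_one σ hσ hz
  set w := z ^ 2764800 with hw
  have hwk : w ∈ σ.ker := pow_mem hz _
  have hw91 : w ^ 91 = 1 := by rw [hw, ← pow_mul]; exact h1
  have i13 : (zpowers am).index = 19353600 := by
    have := B.index_zpowers (orderOf_eq_of_prime3 (by norm_num : Nat.Prime 13) B.a13 B.a_ne)
    omega
  have i7 : (zpowers (wv3 am bm cm dW)).index = 35942400 := by
    have := B.index_zpowers (orderOf_eq_of_prime3 (by norm_num : Nat.Prime 7) B.d7 B.d_ne)
    omega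
  have h13 : w ^ 7 = 1 :=
    Cfsg.Agent.Lib.H28.StemTools.eq_one_of_cyclic σ hσ am (pow_mem hwk 7) (n := 13)
      (by rw [← pow_mul]; exact hw91) (by rw [i13]; norm_num)
  have h7 : w ^ 13 = 1 :=
    Cfsg.Agent.Lib.H28.StemTools.eq_one_of_cyclic σ hσ (wv3 am bm cm dW) (pow_mem hwk 13) (n := 7)
      (by rw [← pow_mul]; exact hw91) (by rw [i7]; norm_num)
  exact eq_one_of_pow_coprime w 7 13 h13 h7 (by norm_num)

end

section lift

variable {G : Type*} [Group G]

/-- a cyclic subgroup of prime order on which a homomorphism is nontrivial meets its kernel trivially -/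
theorem zpowers_inf_ker3 {E : Type*} [Group E] (τ : E →* G) (a : E) (p : ℕ) (hp : p.Prime)
    (ha : a ^ p = 1) (hτ : τ a ≠ 1) : ∀ x ∈ closure ({a} : Set E), τ x = 1 → x = 1 := by
  intro x hx hx1
  rw [← zpowers_eq_closure] at hx
  obtain ⟨k, rfl⟩ := mem_zpowers_iff.mp hx
  have ho : orderOf (τ a) = p :=
    orderOf_eq_of_prime3 hp (by rw [← map_pow, ha, map_one]) hτ
  rw [map_zpow] at hx1
  have hd : (p : ℤ) ∣ k := by
    rw [← ho]
    exact orderOf_dvd_iff_zpow_eq_one.mpr hx1
  obtain ⟨m, rfl⟩ := hd
  rw [zpow_mul, zpow_natCast, ha, one_zpow]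

end lift

section stem

variable {G : Type*} [Group G] {am bm cm : G}

/-- the subgroup generated by `am bm` has at least `62400` elements -/
theorem Base.card_U (B : Base am bm cm) : 62400 ≤ Nat.card (closure ({am, bm} : Set G)) := by
  have hfin := B.finite
  have S : Setting2 am bm cm (⊥ : Subgroup G) :=
    { central := bot_le
      disj := fun x _ hx => Subgroup.mem_bot.mp hx
      exact := fun w hw => B.rel2 w (List.mem_append_left _ hw)
      rel := fun w hw => by rw [B.rel2 w (List.mem_append_right _ hw)]; exact one_mem _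
      gen := B.gen
      tors := fun w hw => by
        rw [B.rel2 w (List.mem_append_right _ (List.mem_append_left _ hw)), one_pow] }
  obtain ⟨-, -, -, hq⟩ := mono_main2 S
  rw [B.rel2 uW (by decide), inv_one, orderOf_one, mul_one] at hq
  have h1 := Subgroup.card_eq_card_quotient_mul_card_subgroup (closure ({am, bm} : Set G))
  rw [B.card] at h1
  by_contra hlt
  push Not at hlt
  have : Nat.card (G ⧸ closure ({am, bm} : Set G)) * Nat.card (closure ({am, bm} : Set G)) ≤
      4032 * 62399 := Nat.mul_le_mul hq (by omega)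
  omega

/-- Stage 1 for a subgroup: two elements `u v` of order dividing 13 of a group `E` with a homomorphism
`σ` to `G`, central on the kernel, mapping them to `am bm`, generate a subgroup of at most `62400`
elements if the kernel has exponent dividing `2764800`. -/
theorem Base.card_lift_le (B : Base am bm cm) {E : Type*} [Group E] (σ : E →* G)
    (hc : σ.ker ≤ center E) (hN : ∀ z ∈ σ.ker, z ^ 2764800 = 1) (u v : E) (hu : σ u = am)
    (hv : σ v = bm) (hu13 : u ^ 13 = 1) (hv13 : v ^ 13 = 1) :
    Finite ↥(closure ({u, v} : Set E)) ∧ Nat.card ↥(closure ({u, v} : Set E)) ≤ 62400 := by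
  set K0 : Subgroup E := closure {u, v} with hK0
  have huK : u ∈ K0 := subset_closure (by simp)
  have hvK : v ∈ K0 := subset_closure (by simp)
  let τ : ↥K0 →* G := σ.comp K0.subtype
  let ga1 : ↥K0 := ⟨u, huK⟩
  let gb1 : ↥K0 := ⟨v, hvK⟩
  have hτa : τ ga1 = am := hu
  have hτb : τ gb1 = bm := hv
  have hga13 : ga1 ^ 13 = 1 := Subtype.ext (by rw [Subgroup.coe_pow]; exact hu13)
  have hgb13 : gb1 ^ 13 = 1 := Subtype.ext (by rw [Subgroup.coe_pow]; exact hv13)
  have hkerc : ∀ x : ↥K0, τ x = 1 → x ∈ center ↥K0 := by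
    intro x hx
    have hx' : (x : E) ∈ σ.ker := hx
    rw [mem_center_iff]
    intro y
    apply Subtype.ext
    exact mem_center_iff.mp (hc hx') y
  have S1' : Setting1 ga1 gb1 (τ.ker ⊓ center ↥K0) :=
    { central := inf_le_right
      disj := fun x hx hxA =>
        zpowers_inf_ker3 τ ga1 13 (by norm_num) hga13 (by rw [hτa]; exact B.a_ne) x hx
          (MonoidHom.mem_ker.mp hxA.1)
      exact := by
        intro w hw
        simp only [C1.exactL, List.mem_cons, List.not_mem_nil, or_false] at hw
        rcases hw with rfl | rfl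
        · exact (wv2_replicate0 ga1 gb1 13).trans hga13
        · exact (wv2_replicate2 ga1 gb1 13).trans hgb13
      rel := by
        intro w hw
        have h1 : τ (wv2 ga1 gb1 w) = 1 := by
          rw [map_wv2, hτa, hτb]
          exact B.rel1 w (List.mem_append_right _ hw)
        exact ⟨MonoidHom.mem_ker.mpr h1, hkerc _ h1⟩
      gen := by
        have h := Subgroup.closure_closure_coe_preimage (k := ({u, v} : Set E))
        convert h using 2
        ext x
        simp only [Set.mem_insert_iff, Set.mem_singleton_iff, Set.mem_preimage]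
        constructor
        · rintro (rfl | rfl)
          · left; rfl
          · right; rfl
        · rintro (h | h)
          · left; exact Subtype.ext h
          · right; exact Subtype.ext h
      tors := by
        intro z hz
        apply Subtype.ext
        rw [Subgroup.coe_pow]
        exact hN _ (show (z : E) ∈ σ.ker from hz.1) }
  obtain ⟨hfinQ1, hq1⟩ := mono_main1 S1'
  have h1 := Subgroup.card_eq_card_quotient_mul_card_subgroup (closure ({ga1} : Set ↥K0))
  have h2 : Nat.card (closure ({ga1} : Set ↥K0)) ≤ 13 := by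
    rw [← zpowers_eq_closure, Nat.card_zpowers]
    exact Nat.le_of_dvd (by norm_num) (orderOf_dvd_of_pow_eq_one hga13)
  have hfinH : Finite (closure ({ga1} : Set ↥K0)) := by
    rw [← zpowers_eq_closure]
    exact Nat.finite_of_card_ne_zero (by
      rw [Nat.card_zpowers]
      exact (orderOf_pos_iff.2 (isOfFinOrder_iff_pow_eq_one.2 ⟨13, by norm_num, hga13⟩)).ne')
  have hfinK : Finite ↥K0 :=
    Finite.of_equiv _ (Subgroup.groupEquivQuotientProdSubgroup (s := closure ({ga1} : Set ↥K0))).symm
  refine ⟨hfinK, ?_⟩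
  calc Nat.card ↥K0 = _ := h1
    _ ≤ 4800 * 13 := Nat.mul_le_mul hq1 h2
    _ = 62400 := by norm_num

/-- a homomorphism mapping `u v` to `am bm` is injective on `⟨u, v⟩` if that has at most `62400`
elements -/
theorem Base.inj_of_card_le (B : Base am bm cm) {E : Type*} [Group E] (σ : E →* G) (u v : E)
    (hu : σ u = am) (hv : σ v = bm) [Finite ↥(closure ({u, v} : Set E))]
    (hcard : Nat.card ↥(closure ({u, v} : Set E)) ≤ 62400) :
    ∀ x ∈ closure ({u, v} : Set E), σ x = 1 → x = 1 := by
  set K0 : Subgroup E := closure {u, v} with hK0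
  let τ : ↥K0 →* G := σ.comp K0.subtype
  have hmap : K0.map σ = closure ({am, bm} : Set G) := by
    rw [hK0, MonoidHom.map_closure, Set.image_insert_eq, Set.image_singleton, hu, hv]
  have hfinG := B.finite
  have hsurj : Function.Surjective τ.rangeRestrict := MonoidHom.rangeRestrict_surjective _
  have hrange : τ.range = closure ({am, bm} : Set G) := by
    rw [MonoidHom.range_eq_map, ← Subgroup.map_map, ← MonoidHom.range_eq_map, Subgroup.range_subtype,
      hmap]
  have hcard' : Nat.card ↥K0 ≤ Nat.card τ.range := by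
    rw [hrange]
    exact le_trans hcard B.card_U
  have hbij := Function.Surjective.bijective_of_nat_card_le hsurj hcard'
  intro x hx hx1
  have h1 : τ.rangeRestrict ⟨x, hx⟩ = τ.rangeRestrict 1 := by
    apply Subtype.ext
    rw [map_one]
    exact hx1
  exact congrArg Subtype.val (hbij.1 h1)

/-- the kernel of a finite stem extension is generated by an element of order at most two -/
theorem Base.stem (B : Base am bm cm) {Γ : Type*} [Group Γ] [Finite Γ] (σ : Γ →* G)
    (hσ : Cfsg.IsStemExtension σ) : ∃ z : Γ, z ^ 2 = 1 ∧ σ.ker = zpowers z := by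
  have hN := B.ker_pow σ hσ
  obtain ⟨hs, hc, hd⟩ := hσ
  obtain ⟨a, ha, ha13⟩ := Cfsg.Agent.Lib.H17.M22M.exists_lift_pow σ hs hN
    (by norm_num : Nat.Coprime 13 2764800) B.a13
  obtain ⟨b, hb, hb13⟩ := Cfsg.Agent.Lib.H17.M22M.exists_lift_pow σ hs hN
    (by norm_num : Nat.Coprime 13 2764800) B.b13
  obtain ⟨c, hc', hc13⟩ := Cfsg.Agent.Lib.H17.M22M.exists_lift_pow σ hs hN
    (by norm_num : Nat.Coprime 13 2764800) B.c13
  obtain ⟨hfinK0, hcardK0⟩ := B.card_lift_le σ hc hN a b ha hb ha13 hb13
  have hinj := B.inj_of_card_le σ a b ha hb hcardK0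
  have S2' : Setting2 a b c σ.ker :=
    { central := hc
      disj := fun x hx hxA => hinj x hx (MonoidHom.mem_ker.mp hxA)
      exact := by
        intro w hw
        have hval : σ (wv3 a b c w) = 1 := by
          rw [map_wv3, ha, hb, hc']
          exact B.rel2 w (List.mem_append_left _ hw)
        rcases exact2_cases w hw with h | rfl
        · apply hinj _ _ hval
          rw [wv3_eq_wv2 a b c w h]
          exact wv2_mem a b w
        · rw [wv3_replicate4]; exact hc13
      rel := by
        intro w hw
        rw [MonoidHom.mem_ker, map_wv3, ha, hb, hc']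
        exact B.rel2 w (List.mem_append_right _ hw)
      gen := Cfsg.Agent.Lib.H17.M22M.closure_lift_eq_top σ hc hd {a, b, c} (by
        rw [Set.image_insert_eq, Set.image_insert_eq, Set.image_singleton, ha, hb, hc']
        exact B.gen)
      tors := by
        intro w hw
        apply hN
        rw [MonoidHom.mem_ker, map_wv3, ha, hb, hc']
        exact B.rel2 w (List.mem_append_right _ (List.mem_append_left _ hw)) }
  obtain ⟨hgk, hg2, hfinQ, hq⟩ := mono_main2 S2'
  set g : Γ := (wv3 a b c uW)⁻¹ with hg
  refine ⟨g, hg2, ?_⟩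
  -- counting
  have h1 : Nat.card Γ = Nat.card (Γ ⧸ closure ({a, b} : Set Γ)) * Nat.card (closure ({a, b} : Set Γ)) :=
    Subgroup.card_eq_card_quotient_mul_card_subgroup _
  have h2 : Nat.card Γ = Nat.card σ.ker * Nat.card G :=
    Cfsg.Agent.Lib.H28.StemTools.card_eq_card_ker_mul σ hs
  have h3 : Nat.card σ.ker * 251596800 ≤ orderOf g * 251596800 := by
    calc Nat.card σ.ker * 251596800 = Nat.card Γ := by rw [h2, B.card]
      _ = _ := h1
      _ ≤ (4032 * orderOf g) * 62400 := Nat.mul_le_mul hq hcardK0
      _ = orderOf g * 251596800 := by ring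
  have h4 : Nat.card σ.ker ≤ orderOf g := Nat.le_of_mul_le_mul_right h3 (by norm_num)
  have hle' : zpowers g ≤ σ.ker := by rw [zpowers_le]; exact hgk
  symm
  apply Subgroup.eq_of_le_of_card_ge hle'
  rw [Nat.card_zpowers]
  exact h4

/-- the kernel of a finite stem extension has at most two elements -/
theorem Base.card_ker_dvd (B : Base am bm cm) {Γ : Type*} [Group Γ] [Finite Γ] (σ : Γ →* G)
    (hσ : Cfsg.IsStemExtension σ) : Nat.card σ.ker ∣ 2 := by
  obtain ⟨z, hz2, hker⟩ := B.stem σ hσ
  rw [hker, Nat.card_zpowers]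
  exact orderOf_dvd_of_pow_eq_one hz2

end stem

end Cfsg.Agent.Lib.H16.G24M
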